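import Groth.Agent.AmpleThLib.Ample
import Groth.Agent.TwistLib.ProjSymExt
import Groth.Agent.TwistLib.Basic

/-!
# Ampleness is preserved by pullback along affine morphisms
-/

set_option autoImplicit false
universe u

open CategoryTheory CategoryTheory.Limits AlgebraicGeometry TopologicalSpace Opposite
open AmpleLib AmpleThLib
open TwistLib (genSet)
open KFlatLib (pb puSec)

noncomputable section

namespace AmpleDevLib

variable {X Y : Scheme.{u}} (f : X ⟶ Y) {L : Y.Modules}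

theorem puSec_genOn {U : Y.Opens} {e : Γ(L, U)} (he : GenOn L e) : GenOn (pb f L) (puSec f e) :=
  TwistLib.genOn_of_genAt fun _ hx => TwistLib.GenAt.puSec f (he.genAt hx)

theorem isInvertible_pb (hL : PicF.IsInvertible L) : PicF.IsInvertible (pb f L) :=
  TwistLib.isInvertible_of_genOn (fun a : Gens L => f ⁻¹ᵁ a.1) (fun x => gens_cover hL (f x))
    (fun a => puSec f a.2.1) fun a => puSec_genOn f a.2.2

/-- `f^*(L^n) ≅ (f^* L)^n`. -/
theorem exists_pullPowIso (hL : PicF.IsInvertible L) (n : ℕ) :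
    ∃ φ : pb f (CohB1.tensorPow L n) ≅ CohB1.tensorPow (pb f L) n,
      ∀ a : Gens L, φ.hom.app (f ⁻¹ᵁ a.1) (puSec f (pS a.2.1 n)) = pS (puSec f a.2.1) n := by
  refine exists_iso_gens (fun a : Gens L => f ⁻¹ᵁ a.1) _ _ (fun x => gens_cover hL (f x))
    (fun a => puSec_genOn f (pS_genOn a.2.2 n)) (fun a => pS_genOn (puSec_genOn f a.2.2) n) ?_
  intro a b V ha hb
  have hab : f ⁻¹ᵁ (a.1 ⊓ b.1) ≤ f ⁻¹ᵁ a.1 := fun x hx => hx.1
  obtain ⟨c, hc⟩ := (a.2.2 (a.1 ⊓ b.1) inf_le_left).2 (res L inf_le_right b.2.1)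
  dsimp only at hc
  have hV : V ≤ f ⁻¹ᵁ (a.1 ⊓ b.1) := fun x hx => ⟨ha hx, hb hx⟩
  let c' : Γ(X, V) := (X.presheaf.map (homOfLE hV).op).hom (f.app (a.1 ⊓ b.1) c)
  have key : ∀ {M : Y.Modules} (s : Γ(M, a.1)) (t : Γ(M, b.1)) (d : Γ(Y, a.1 ⊓ b.1)),
      d • res M inf_le_left s = res M inf_le_right t →
        (X.presheaf.map (homOfLE hV).op).hom (f.app (a.1 ⊓ b.1) d) • res (pb f M) ha (puSec f s) =
          res (pb f M) hb (puSec f t) := by
    intro M s t d h
    have h1 := congrArg (fun z => res (pb f M) hV (puSec f z)) h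
    rw [TwistLib.puSec_smul, TwistLib.puSec_res f, TwistLib.puSec_res f, res_smul, res_res, res_res] at h1
    exact h1
  refine ⟨c' ^ n, ?_, ?_⟩
  · have h1 := key (pS a.2.1 n) (pS b.2.1 n) (c ^ n) (by rw [pS_res, pS_res, ← hc, pS_smul])
    rwa [map_pow, map_pow] at h1
  · have h1 := key a.2.1 b.2.1 c hc
    rw [pS_res, pS_res, ← pS_smul]
    exact congrArg (fun z => pS z n) h1

/-- The locus of a pulled back section. -/
theorem genSet_puSec (hL : PicF.IsInvertible L) (σ : Γ(L, ⊤)) :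
    genSet (isInvertible_pb f hL) (puSec f σ : Γ(pb f L, ⊤)) = f ⁻¹ᵁ genSet hL σ := by
  refine le_antisymm (fun x hx => ?_) fun x hx => TwistLib.GenAt.puSec f (show GenAt L σ _ from hx)
  obtain ⟨U, e, hxU, he⟩ := TwistLib.exists_genOn hL (f x)
  obtain ⟨c, hc⟩ := (he U le_rfl).2 (res L le_top σ)
  dsimp only at hc
  rw [res_refl] at hc
  have h1 : f.app U c • puSec f e = res (pb f L) (le_top : f ⁻¹ᵁ U ≤ ⊤) (puSec f σ : Γ(pb f L, ⊤)) := by
    rw [← TwistLib.puSec_smul, hc]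
    exact TwistLib.puSec_res f _ σ
  have h2 := (mem_genSet_coeff (isInvertible_pb f hL) _ (puSec_genOn f he) h1).le ⟨hx, hxU⟩
  rw [← Scheme.preimage_basicOpen] at h2
  exact ((mem_genSet_coeff hL σ he hc).ge h2).1

/-- The pullback of an ample module along an affine morphism is ample. -/
theorem isAmple_pb [IsAffineHom f] (hL : PicF.IsInvertible L) (hA : CohB1.IsAmple L) :
    CohB1.IsAmple (pb f L) := by
  haveI : CompactSpace Y := hA.2.1
  haveI : CompactSpace X := QuasiCompact.compactSpace_of_compactSpace f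
  refine (isAmple_iff (hL := isInvertible_pb f hL)).mpr ⟨inferInstance, fun x => ?_⟩
  obtain ⟨n, V, hn, ⟨σ, hσ⟩, hxV, hV⟩ := ((isAmple_iff (hL := hL)).mp hA).2 (f x)
  obtain ⟨φ, -⟩ := exists_pullPowIso f hL n
  refine ⟨n, f ⁻¹ᵁ V, hn, ⟨φ.hom.app ⊤ (puSec f σ : Γ(pb f (CohB1.tensorPow L n), ⊤)), ?_⟩, hxV, hV.preimage f⟩
  rw [← hσ, ← genSet_puSec f (tensorPow_isInvertible hL n) σ]
  exact genSet_iso (isInvertible_pb f (tensorPow_isInvertible hL n)) _ φ _

end AmpleDevLib
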