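import Groth.Agent.AmpleDevLib.Pull
import Groth.Agent.SerreVanLib.Converse
import Groth.Agent.DevissLib.Filtration
import Groth.Agent.ProjFormLib.Proj
import Groth.Agent.QCohLib.Push
import Groth.Agent.QCohLib.Coherent
import Groth.Agent.ModSiteLib.KFlatCx

/-!
# Ampleness is detected on integral closed subschemes
-/

set_option autoImplicit false
universe u

open CategoryTheory CategoryTheory.Limits AlgebraicGeometry TopologicalSpace Opposite
open QCohLib (toAbF HU)
open KFlatLib (pb tens)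

noncomputable section

namespace AmpleDevLib

variable {X : Scheme.{u}}

/-- `A ⊗ B ≅ B ⊗ A`. -/
def tensComm (A B : X.Modules) : CohB1.tensorMod A B ≅ CohB1.tensorMod B A :=
  ModSiteLib.symX X.sheaf A B

theorem isFinLocFree_of_isInvertible {L : X.Modules} (hL : PicF.IsInvertible L) : FlatMod.IsFinLocFree L :=
  fun x => by
    obtain ⟨U, hU, he⟩ := CurvLib.locFree_of_isInvertible hL x
    exact ⟨U, 1, hU, he⟩

/-- Eventual vanishing of the twists of a module. -/
def EvVanish (L G : X.Modules) : Prop :=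
  ∃ n₀ : ℕ, ∀ n : ℕ, n₀ ≤ n → ∀ p : ℕ, 0 < p → Subsingleton (Coh.HH X (tens (CohB1.tensorPow L n) G) p)

theorem hu_of_hh {M : X.Modules} {p : ℕ} (h : Subsingleton (Coh.HH X M p)) :
    Subsingleton (HU ((toAbF X).obj M) p (⊤ : Opens X)) :=
  haveI : Subsingleton (Sheaf.H ((toAbF X).obj M) p) := h
  (QCohLib.hEquiv ((toAbF X).obj M) p).symm.injective.subsingleton

theorem hh_of_hu {M : X.Modules} {p : ℕ} (h : Subsingleton (HU ((toAbF X).obj M) p (⊤ : Opens X))) :
    Subsingleton (Coh.HH X M p) :=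
  (QCohLib.hEquiv ((toAbF X).obj M) p).injective.subsingleton

theorem evVanish_two_of_three {L : X.Modules} (hL : PicF.IsInvertible L) {S : ShortComplex X.Modules}
    (hS : S.ShortExact) :
    (EvVanish L S.X₁ → EvVanish L S.X₂ → EvVanish L S.X₃) ∧
      (EvVanish L S.X₁ → EvVanish L S.X₃ → EvVanish L S.X₂) := by
  have hT : ∀ n, ((S.map (ProjFormLib.tF (CohB1.tensorPow L n))).map (toAbF X)).ShortExact := fun n =>
    QCohLib.toAbF_shortExact (ProjFormLib.shortExact_tens
      (isFinLocFree_of_isInvertible (AmpleThLib.tensorPow_isInvertible hL n)) hS)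
  refine ⟨?_, ?_⟩
  · rintro ⟨a, ha⟩ ⟨b, hb⟩
    refine ⟨max a b, fun n hn p hp => hh_of_hu ?_⟩
    haveI : Subsingleton (HU ((S.map (ProjFormLib.tF (CohB1.tensorPow L n))).map (toAbF X)).X₂ p ⊤) :=
      hu_of_hh (hb n (le_of_max_le_right hn) p hp)
    haveI : Subsingleton (HU ((S.map (ProjFormLib.tF (CohB1.tensorPow L n))).map (toAbF X)).X₁ (p + 1) ⊤) :=
      hu_of_hh (ha n (le_of_max_le_left hn) (p + 1) p.succ_pos)
    exact QCohLib.subsingleton_X₃ (hT n)
  · rintro ⟨a, ha⟩ ⟨b, hb⟩
    refine ⟨max a b, fun n hn p hp => hh_of_hu ?_⟩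
    haveI : Subsingleton (HU ((S.map (ProjFormLib.tF (CohB1.tensorPow L n))).map (toAbF X)).X₁ p ⊤) :=
      hu_of_hh (ha n (le_of_max_le_left hn) p hp)
    haveI : Subsingleton (HU ((S.map (ProjFormLib.tF (CohB1.tensorPow L n))).map (toAbF X)).X₃ p ⊤) :=
      hu_of_hh (hb n (le_of_max_le_right hn) p hp)
    exact subsingleton_X₂' (hT n)
where
  subsingleton_X₂' {T : ShortComplex (QCohLib.AbSh X.toTopCat)} (hT : T.ShortExact) {p : ℕ}
      [Subsingleton (HU T.X₁ p ⊤)] [Subsingleton (HU T.X₃ p ⊤)] : Subsingleton (HU T.X₂ p ⊤) := by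
    refine _root_.subsingleton_of_forall_eq 0 fun x => ?_
    obtain ⟨y, rfl⟩ := Abelian.Ext.covariant_sequence_exact₂ _ hT x (Subsingleton.elim _ _)
    rw [Subsingleton.elim y 0, Abelian.Ext.zero_comp]

theorem evVanish_of_iso {L G G' : X.Modules} (e : G ≅ G') (h : EvVanish L G') : EvVanish L G := by
  obtain ⟨n₀, hn⟩ := h
  exact ⟨n₀, fun n h p hp => SerreVanLib.subsingleton_HH_of_iso ((ProjFormLib.tF _).mapIso e) p (hn n h p hp)⟩

theorem evVanish_of_isZero {L G : X.Modules} (h : IsZero G) : EvVanish L G := by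
  refine ⟨0, fun n _ p _ => hh_of_hu ?_⟩
  haveI : (ProjFormLib.tF (CohB1.tensorPow L n)).Additive := inferInstance
  have hz : IsZero ((toAbF X).obj (tens (CohB1.tensorPow L n) G)) :=
    (toAbF X).map_isZero ((ProjFormLib.tF (CohB1.tensorPow L n)).map_isZero h)
  refine _root_.subsingleton_of_forall_eq 0 fun x => ?_
  rw [← Abelian.Ext.comp_mk₀_id x, (IsZero.iff_id_eq_zero _).mp hz, Abelian.Ext.mk₀_zero, Abelian.Ext.comp_zero]

/-- The direct image of a coherent module along an affine morphism has eventually vanishing twists. -/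
theorem evVanish_push {R : Type u} [CommRing R] [IsNoetherianRing R] {Z : Scheme.{u}} (i : Z ⟶ X)
    [IsAffineHom i] (pZ : Z ⟶ Spec (CommRingCat.of R)) [IsProper pZ] {L : X.Modules} (hL : PicF.IsInvertible L)
    (hA : CohB1.IsAmple (pb i L)) (I : Z.Modules) (hI : Coh.IsCoh I) :
    EvVanish L ((Coh.push i).obj I) := by
  obtain ⟨n₀, hn₀⟩ := SerreVanLib.exists_vanishing pZ (isInvertible_pb i hL) hA I hI
  refine ⟨n₀, fun n hn p hp => ?_⟩
  obtain ⟨φ, -⟩ := exists_pullPowIso i hL n
  let J := tens (pb i (CohB1.tensorPow L n)) I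
  let e : J ≅ CohB1.tensorMod I (CohB1.tensorPow (pb i L) n) :=
    tensComm _ _ ≪≫ SerreVanLib.tensorCongr I φ
  haveI : Coh.IsQCoh J := by
    haveI := (SerreVanLib.isCoh_tensor hI (AmpleThLib.tensorPow_isInvertible (isInvertible_pb i hL) n)).1
    exact QCohLib.isQCoh_of_iso e.symm
  have h1 : Subsingleton (Coh.HH Z J p) := SerreVanLib.subsingleton_HH_of_iso e p (hn₀ n hn p hp)
  obtain ⟨E⟩ := QCohLib.nonempty_HH_push i J p
  have h2 : Subsingleton (Coh.HH X ((Coh.push i).obj J) p) := E.symm.injective.subsingleton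
  let P := ProjFormLib.projIso' i _ (isFinLocFree_of_isInvertible (AmpleThLib.tensorPow_isInvertible hL n))
  exact SerreVanLib.subsingleton_HH_of_iso (P.app I) p h2

/-- An invertible module on a scheme proper over a noetherian ring is ample if its restrictions to the
integral closed subschemes are ample. -/
theorem isAmple_of_integral {R : Type u} [CommRing R] [IsNoetherianRing R] (pX : X ⟶ Spec (CommRingCat.of R))
    [IsProper pX] {L : X.Modules} (hL : PicF.IsInvertible L)
    (h : ∀ (Z : Scheme.{u}) (i : Z ⟶ X), IsClosedImmersion i → IsIntegral Z → CohB1.IsAmple (pb i L)) :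
    CohB1.IsAmple L := by
  haveI : IsLocallyNoetherian X := LocallyOfFiniteType.isLocallyNoetherian pX
  haveI : CompactSpace X := QuasiCompact.compactSpace_of_compactSpace pX
  haveI : IsNoetherian X := {}
  refine SerreVanLib.isAmple_of_vanishing L hL fun I ι hι hI => ?_
  have hc : Coh.IsCoh I := QCohLib.isCoh_of_mono ι (DevissLib.isCoh_structureModule X) hI
  obtain ⟨m, F, φ, h0, ⟨e⟩, -, hstep⟩ := DevissLib.exists_filtration hc
  have key : ∀ j ≤ m, EvVanish L (F j) := by
    intro j hj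
    induction j with
    | zero => exact evVanish_of_isZero h0
    | succ j ih =>
      obtain ⟨hφ, Z, i, hi, hZ, J, κ, hκ, hJ, -, ⟨c⟩⟩ := hstep j hj
      haveI := hi
      haveI : IsLocallyNoetherian Z := LocallyOfFiniteType.isLocallyNoetherian (i ≫ pX)
      have hJc : Coh.IsCoh J := QCohLib.isCoh_of_mono κ (DevissLib.isCoh_structureModule Z) hJ
      let S : ShortComplex X.Modules := ShortComplex.mk (φ j) (cokernel.π (φ j)) (cokernel.condition _)
      have hS : S.ShortExact :=
        { exact := ShortComplex.exact_of_g_is_cokernel _ (cokernelIsCokernel (φ j))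
          mono_f := hφ
          epi_g := inferInstanceAs (Epi (cokernel.π (φ j))) }
      exact (evVanish_two_of_three hL hS).2 (ih (Nat.le_of_succ_le hj))
        (evVanish_of_iso c (evVanish_push i (i ≫ pX) hL (h Z i hi hZ) J hJc))
  obtain ⟨n₀, hn⟩ := evVanish_of_iso e.symm (key m le_rfl)
  exact ⟨n₀, SerreVanLib.subsingleton_HH_of_iso (tensComm _ _) 1 (hn (n₀ + 1) (Nat.le_succ _) 1 one_pos)⟩

end AmpleDevLib
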