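import Groth.Agent.AmpleDevLib.Devissage
import Groth.Prelude.Def_PicGrp
import Mathlib.AlgebraicGeometry.IdealSheaf.IrreducibleComponent
import Mathlib.AlgebraicGeometry.Morphisms.ClosedImmersion

/-!
# Ampleness is detected on irreducible components
-/

set_option autoImplicit false
universe u

open CategoryTheory CategoryTheory.Limits AlgebraicGeometry TopologicalSpace Opposite
open KFlatLib (pb)

noncomputable section

namespace AmpleDevLib

variable {X : Scheme.{u}}

/-- A morphism from a reduced scheme into a closed set factors through the reduced subscheme. -/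
theorem vanishingIdeal_le_ker_of_range {W : Scheme.{u}} (f : W ⟶ X) [IsReduced W] (S : Closeds X)
    (h : Set.range f ⊆ S) : Scheme.IdealSheafData.vanishingIdeal S ≤ f.ker := by
  refine Scheme.IdealSheafData.le_ofIdeals_iff.2 fun U s hs => ?_
  rw [Scheme.IdealSheafData.vanishingIdeal_ideal, PrimeSpectrum.mem_vanishingIdeal] at hs
  rw [RingHom.mem_ker]
  refine eq_zero_of_basicOpen_eq_bot _ (eq_bot_iff.2 fun w hw => ?_)
  exfalso
  rw [← Scheme.preimage_basicOpen] at hw
  have hwU : f w ∈ U.1 := X.basicOpen_le s hw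
  have hp : U.2.fromSpec (U.2.primeIdealOf ⟨f w, hwU⟩) = f w := U.2.fromSpec_primeIdealOf ⟨f w, hwU⟩
  have hsp := hs (U.2.primeIdealOf ⟨f w, hwU⟩) (by
    change U.2.fromSpec _ ∈ (S : Set X)
    rw [hp]; exact h ⟨w, rfl⟩)
  have : U.2.primeIdealOf ⟨f w, hwU⟩ ∈ U.2.fromSpec ⁻¹ᵁ X.basicOpen s := by
    change U.2.fromSpec _ ∈ X.basicOpen s
    rw [hp]; exact hw
  rw [U.2.fromSpec_preimage_basicOpen] at this
  exact this hsp

/-- The reduced structure on an irreducible closed set is integral. -/
theorem isIntegral_vanishingIdeal (Z : Closeds X) (h : IsIrreducible (Z : Set X)) :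
    IsIntegral (Scheme.IdealSheafData.vanishingIdeal Z).subscheme := by
  have hr : Set.range (Scheme.IdealSheafData.vanishingIdeal Z).subschemeι = (Z : Set X) :=
    (Scheme.IdealSheafData.vanishingIdeal Z).range_subschemeι.trans
      (Scheme.IdealSheafData.coe_support_vanishingIdeal Z)
  haveI := DevissLib.isReduced_vanishingIdeal' Z
  haveI : IrreducibleSpace (Scheme.IdealSheafData.vanishingIdeal Z).subscheme := by
    have hi := (Scheme.IdealSheafData.vanishingIdeal Z).subschemeι.isEmbedding
    have hne : Nonempty (Scheme.IdealSheafData.vanishingIdeal Z).subscheme := by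
      obtain ⟨x, hx⟩ := h.1
      obtain ⟨z, -⟩ := hr.ge hx
      exact ⟨z⟩
    have hpre : IsPreirreducible (Set.univ : Set (Scheme.IdealSheafData.vanishingIdeal Z).subscheme) := by
      rintro u v hu hv ⟨a, -, ha⟩ ⟨b, -, hb⟩
      obtain ⟨u', hu', rfl⟩ := hi.isInducing.isOpen_iff.mp hu
      obtain ⟨v', hv', rfl⟩ := hi.isInducing.isOpen_iff.mp hv
      obtain ⟨_, hy, hyu, hyv⟩ :=
        h.2 u' v' hu' hv' ⟨_, hr.le ⟨a, rfl⟩, ha⟩ ⟨_, hr.le ⟨b, rfl⟩, hb⟩
      obtain ⟨z, rfl⟩ := hr.ge hy
      exact ⟨z, trivial, hyu, hyv⟩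
    exact { isPreirreducible_univ := hpre, toNonempty := hne }
  exact isIntegral_of_irreducibleSpace_of_isReduced _

theorem isAmple_of_iso {L M : X.Modules} (hL : PicF.IsInvertible L) (hM : PicF.IsInvertible M) (e : L ≅ M)
    (hA : CohB1.IsAmple L) : CohB1.IsAmple M := by
  have hp : ∀ n, Nonempty (CohB1.tensorPow L n ≅ CohB1.tensorPow M n) := fun n => by
    induction n with
    | zero => exact ⟨Iso.refl _⟩
    | succ n ih => exact ih.map fun i => PicGrp.tensorModIso i e
  rw [AmpleThLib.isAmple_iff (hL := hM)]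
  obtain ⟨hc, h⟩ := (AmpleThLib.isAmple_iff (hL := hL)).mp hA
  refine ⟨hc, fun x => ?_⟩
  obtain ⟨n, V, hn, ⟨σ, hσ⟩, hx, hV⟩ := h x
  exact ⟨n, V, hn, ⟨_, (AmpleThLib.genSet_iso _ _ (hp n).some σ).trans hσ⟩, hx, hV⟩

/-- On a scheme proper over a noetherian ring, ampleness can be tested on the irreducible components. -/
theorem isAmple_iff_components {R : Type u} [CommRing R] [IsNoetherianRing R]
    (pX : X ⟶ Spec (CommRingCat.of R)) [IsProper pX] {L : X.Modules} (hL : PicF.IsInvertible L) :
    CohB1.IsAmple L ↔ ∀ Z : Closeds X, (Z : Set X) ∈ irreducibleComponents X →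
      CohB1.IsAmple (pb (Scheme.IdealSheafData.vanishingIdeal Z).subschemeι L) := by
  refine ⟨fun hA Z _ => isAmple_pb _ hL hA, fun h => isAmple_of_integral pX hL fun W i hi hW => ?_⟩
  obtain ⟨C, hC, hle⟩ := exists_mem_irreducibleComponents_subset_of_isIrreducible
    (Set.range i) (by
      rw [← Set.image_univ]
      exact (IrreducibleSpace.isIrreducible_univ _).image _ i.continuous.continuousOn)
  let Z : Closeds X := ⟨C, isClosed_of_mem_irreducibleComponents C hC⟩
  let ι := (Scheme.IdealSheafData.vanishingIdeal Z).subschemeι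
  have hker : ι.ker ≤ i.ker := by
    rw [Scheme.IdealSheafData.ker_subschemeι]
    exact vanishingIdeal_le_ker_of_range i Z hle
  let l := IsClosedImmersion.lift ι i hker
  have hl : l ≫ ι = i := IsClosedImmersion.lift_fac _ _ _
  haveI : IsClosedImmersion (l ≫ ι) := by rw [hl]; exact hi
  haveI : IsClosedImmersion l := IsClosedImmersion.of_comp l ι
  refine isAmple_of_iso (isInvertible_pb l (isInvertible_pb ι hL)) (isInvertible_pb i hL) ?_
    (isAmple_pb l (isInvertible_pb ι hL) (h Z hC))
  exact (Scheme.Modules.pullbackComp l ι).app L ≪≫ (Scheme.Modules.pullbackCongr hl).app L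

end AmpleDevLib
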